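import Groth.Agent.S2568
import Groth.Agent.S3388
import Groth.Agent.Lib.FibreDimAt6.Proper
import Groth.Agent.Lib.CKaehler2.EtaleFree
import Groth.Agent.Lib.Chow.Prod
import Groth.Prelude.Def_RelProj
import Groth.Prelude.Def_Pi1
import Mathlib.AlgebraicGeometry.AlgClosed.Basic

/-!
# Families of cycles meeting a connected set of parameters
-/

set_option autoImplicit false
set_option backward.isDefEq.respectTransparency false
set_option linter.style.haveILetI false
set_option linter.unusedSectionVars false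
set_option maxHeartbeats 800000

universe u

open CategoryTheory CategoryTheory.Limits AlgebraicGeometry TopologicalSpace

noncomputable section

namespace GrothLib.CycInter

/-- A strictly larger irreducible closed set has larger dimension. -/
theorem eq_of_subset_of_dim {T : Type*} [TopologicalSpace T] {C G : Set T} (hCc : IsClosed C)
    (hG : IsIrreducible G) (hle : C ⊆ G) {d : ℕ} (hCd : topologicalKrullDim ↥C = d)
    (hGd : topologicalKrullDim ↥G ≤ d) : C = G := by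
  by_contra hne
  have hcl : Topology.IsClosedEmbedding (Set.inclusion hle) :=
    ⟨Topology.IsEmbedding.inclusion hle, by
      rw [Set.range_inclusion]
      exact hCc.preimage continuous_subtype_val⟩
  obtain ⟨L, hL⟩ := Order.le_krullDim_iff.1 (le_of_eq hCd.symm :
    (d : WithBot ℕ∞) ≤ Order.krullDim (IrreducibleCloseds ↥C))
  let φ : IrreducibleCloseds ↥C → IrreducibleCloseds ↥G := fun Z =>
    ⟨Set.inclusion hle '' (Z : Set ↥C), Z.isIrreducible.image _ hcl.continuous.continuousOn,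
      hcl.isClosedMap _ Z.isClosed⟩
  have hφ : StrictMono φ := fun A B hAB => by
    refine lt_of_le_of_ne (Set.image_mono hAB.le) fun h => hAB.ne ?_
    exact IrreducibleCloseds.ext (hcl.injective.image_injective (congrArg (fun Z : IrreducibleCloseds ↥G => (Z : Set ↥G)) h))
  have huniv : IsIrreducible (Set.univ : Set ↥G) := by
    haveI : Nonempty ↥G := hG.nonempty.to_subtype
    haveI : PreirreducibleSpace ↥G := Subtype.preirreducibleSpace hG.2
    exact ⟨Set.univ_nonempty, PreirreducibleSpace.isPreirreducible_univ⟩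
  let top : IrreducibleCloseds ↥G := ⟨Set.univ, huniv, isClosed_univ⟩
  obtain ⟨t, htG, htC⟩ := Set.not_subset.1 fun h : G ⊆ C => hne (hle.antisymm h)
  have hlast : (L.map φ hφ).last < top := by
    refine lt_of_le_of_ne (Set.subset_univ _) fun h => htC ?_
    have hmem : (⟨t, htG⟩ : ↥G) ∈ ((L.map φ hφ).last : Set ↥G) := by rw [h]; exact Set.mem_univ _
    obtain ⟨c, -, hc⟩ := hmem
    rw [show t = (Set.inclusion hle c : T) from congrArg Subtype.val hc.symm]
    exact c.2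
  have h1 := Order.LTSeries.length_le_krullDim ((L.map φ hφ).snoc top hlast)
  have h2 : ((d + 1 : ℕ) : WithBot ℕ∞) ≤ (d : WithBot ℕ∞) := by
    refine le_trans (le_of_eq ?_) (h1.trans hGd)
    simp [hL]
  exact absurd (Nat.cast_le.1 h2) (by omega)

/-- A point near which the space has dimension at least `d` lies on a component of dimension at least `d`. -/
theorem exists_component {T : Type*} [TopologicalSpace T] [NoetherianSpace T] {K : Set T} (hK : IsClosed K)
    {w : T} (hw : w ∈ K) {d : ℕ}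
    (hd : ∀ O : Opens T, w ∈ O → (d : WithBot ℕ∞) ≤ topologicalKrullDim ↥(K ∩ (O : Set T))) :
    ∃ C : Set T, IsClosed C ∧ IsIrreducible C ∧ C ⊆ K ∧ w ∈ C ∧ (d : WithBot ℕ∞) ≤ topologicalKrullDim ↥C := by
  classical
  obtain ⟨S, hSf, hSc, hSi, hS⟩ := NoetherianSpace.exists_finite_set_isClosed_irreducible hK
  let O : Opens T := ⟨(⋃ C ∈ {C ∈ S | w ∉ C}, C)ᶜ,
    ((hSf.subset fun C hC => hC.1).isClosed_biUnion fun C hC => hSc C hC.1).isOpen_compl⟩
  have hwO : w ∈ O := fun h => by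
    obtain ⟨C, hC, hwC⟩ := Set.mem_iUnion₂.1 h
    exact hC.2 hwC
  obtain ⟨L, hL⟩ := Order.le_krullDim_iff.1 (hd O hwO :
    (d : WithBot ℕ∞) ≤ Order.krullDim (IrreducibleCloseds ↥(K ∩ (O : Set T))))
  let top := L.last
  let D : Set T := closure (Subtype.val '' (top : Set ↥(K ∩ (O : Set T))))
  have hD : IsIrreducible D := (top.isIrreducible.image _ continuous_subtype_val.continuousOn).closure
  have hDK : D ⊆ K := closure_minimal (by rintro _ ⟨a, -, rfl⟩; exact a.2.1) hK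
  obtain ⟨C, hCS, hDC⟩ : ∃ C ∈ S, D ⊆ C :=
    (isIrreducible_iff_sUnion_isClosed.1 hD) hSf.toFinset (fun C hC => hSc C (hSf.mem_toFinset.1 hC))
      (by rw [hSf.coe_toFinset, ← hS]; exact hDK) |>.imp fun C h => ⟨hSf.mem_toFinset.1 h.1, h.2⟩
  have hCK : C ⊆ K := hS ▸ Set.subset_sUnion_of_mem hCS
  refine ⟨C, hSc C hCS, hSi C hCS, hCK, ?_, ?_⟩
  · by_contra hwC
    obtain ⟨a, ha⟩ := top.isIrreducible.nonempty
    exact a.2.2 (Set.mem_iUnion₂.2 ⟨C, ⟨hCS, hwC⟩, hDC (subset_closure ⟨a, ha, rfl⟩)⟩)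
  · -- push the chain into `C`
    let j : IrreducibleCloseds ↥(K ∩ (O : Set T)) → IrreducibleCloseds T := fun Z =>
      ⟨closure (Subtype.val '' (Z : Set ↥(K ∩ (O : Set T)))),
        (Z.isIrreducible.image _ continuous_subtype_val.continuousOn).closure, isClosed_closure⟩
    have hjinj : Function.Injective j := fun A B h => by
      have h' : closure (Subtype.val '' (A : Set ↥(K ∩ (O : Set T)))) =
          closure (Subtype.val '' (B : Set ↥(K ∩ (O : Set T)))) :=
        congrArg (fun Z : IrreducibleCloseds T => (Z : Set T)) h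
      refine IrreducibleCloseds.ext ?_
      have e : ∀ Z : IrreducibleCloseds ↥(K ∩ (O : Set T)),
          Subtype.val ⁻¹' closure (Subtype.val '' (Z : Set ↥(K ∩ (O : Set T)))) = (Z : Set ↥(K ∩ (O : Set T))) :=
        fun Z => by
          rw [← Topology.IsInducing.subtypeVal.closure_eq_preimage_closure_image, Z.isClosed.closure_eq]
      rw [← e A, ← e B, h']
    have hjmono : Monotone j := fun A B hAB => closure_mono (Set.image_mono hAB)
    have hj : StrictMono j := hjmono.strictMono_of_injective hjinj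
    let φ : IrreducibleCloseds ↥(K ∩ (O : Set T)) → Set ↥C := fun Z => Subtype.val ⁻¹' (j Z : Set T)
    have hsub : ∀ i, (j (L i) : Set T) ⊆ C := fun i =>
      Set.Subset.trans (show (j (L i) : Set T) ⊆ (j top : Set T) from hjmono (L.monotone (Fin.le_last i))) hDC
    let M : LTSeries (IrreducibleCloseds ↥C) := LTSeries.mk L.length
      (fun i => ⟨φ (L i), by
        have himg : Subtype.val '' (φ (L i)) = (j (L i) : Set T) := by
          show Subtype.val '' (Subtype.val ⁻¹' _) = _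
          rw [Set.image_preimage_eq_inter_range, Subtype.range_coe]
          exact Set.inter_eq_left.2 (hsub i)
        refine ⟨?_, ?_⟩
        · obtain ⟨a, ha⟩ := (j (L i)).isIrreducible.nonempty
          exact ⟨⟨a, hsub i ha⟩, ha⟩
        · intro u v hu hv hu' hv'
          obtain ⟨u₀, hu₀, rfl⟩ := isOpen_induced_iff.1 hu
          obtain ⟨v₀, hv₀, rfl⟩ := isOpen_induced_iff.1 hv
          obtain ⟨a, ha, ha'⟩ := hu'
          obtain ⟨b, hb, hb'⟩ := hv'
          obtain ⟨c, hc, hcu, hcv⟩ := (j (L i)).isIrreducible.2 u₀ v₀ hu₀ hv₀ ⟨a.1, ha, ha'⟩ ⟨b.1, hb, hb'⟩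
          exact ⟨⟨c, hsub i hc⟩, hc, hcu, hcv⟩, (j (L i)).isClosed.preimage continuous_subtype_val⟩)
      (fun a b hab => by
        have hlt : j (L a) < j (L b) := hj (L.strictMono hab)
        refine lt_of_le_of_ne (show φ (L a) ⊆ φ (L b) from Set.preimage_mono hlt.le) fun h => hlt.ne (IrreducibleCloseds.ext ?_)
        have h' : φ (L a) = φ (L b) := congrArg (fun Z : IrreducibleCloseds ↥C => (Z : Set ↥C)) h
        refine Set.Subset.antisymm hlt.le fun x hx => ?_
        exact (Set.ext_iff.1 h' ⟨x, hsub b hx⟩).2 hx)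
    exact (le_of_eq (by rw [← hL]; rfl)).trans (Order.LTSeries.length_le_krullDim M)

variable {k : Type u} [Field k] [IsAlgClosed k] {X Y : Scheme.{u}}
    (sX : X ⟶ Spec (CommRingCat.of k)) (sY : Y ⟶ Spec (CommRingCat.of k))

/-- A closed point of the product is determined by its projections. -/
theorem closedPoint_eq [LocallyOfFiniteType sX] [LocallyOfFiniteType sY] {z w : ↥(pullback sX sY)}
    (hz : IsClosed ({z} : Set ↥(pullback sX sY))) (hw : IsClosed ({w} : Set ↥(pullback sX sY)))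
    (h1 : pullback.fst sX sY z = pullback.fst sX sY w) (h2 : pullback.snd sX sY z = pullback.snd sX sY w) :
    z = w := by
  let f := pullback.fst sX sY ≫ sX
  haveI : LocallyOfFiniteType (pullback.fst sX sY) := inferInstance
  let pz := pointOfClosedPoint f z hz
  let pw := pointOfClosedPoint f w hw
  have e : pz = pw := by
    apply pullback.hom_ext
    · refine ext_of_apply_closedPoint_eq sX ?_ ?_ ?_
      · rw [Category.assoc]; exact pointOfClosedPoint_comp f z hz
      · rw [Category.assoc]; exact pointOfClosedPoint_comp f w hw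
      · simp only [Scheme.Hom.comp_apply, pz, pw, pointOfClosedPoint_apply, h1]
    · refine ext_of_apply_closedPoint_eq sY ?_ ?_ ?_
      · rw [Category.assoc, ← pullback.condition]; exact pointOfClosedPoint_comp f z hz
      · rw [Category.assoc, ← pullback.condition]; exact pointOfClosedPoint_comp f w hw
      · simp only [Scheme.Hom.comp_apply, pz, pw, pointOfClosedPoint_apply, h2]
  have := congrArg (fun m : Spec (CommRingCat.of k) ⟶ pullback sX sY => m (IsLocalRing.closedPoint k)) e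
  simpa [pz, pw] using this

/-- A family is universally open over a normal base. -/
theorem open_and_dim [IsIntegral Y] [LocallyOfFiniteType sX] (hN : Pi1.IsNormalScheme Y) {d : ℕ}
    {Z : Set ↥(pullback sX sY)} (hZc : IsClosed Z) (hZi : IsIrreducible Z)
    (hZs : (pullback.snd sX sY) '' Z = Set.univ)
    (hZd : ∀ y : Y, topologicalKrullDim ↥(Z ∩ (pullback.snd sX sY) ⁻¹' {y}) = d) :
    (∀ O : Set ↥(pullback sX sY), IsOpen O → IsOpen ((pullback.snd sX sY) '' (Z ∩ O))) ∧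
      ∀ w ∈ Z, ∀ O : Opens ↥(pullback sX sY), w ∈ O →
        (d : WithBot ℕ∞) ≤ topologicalKrullDim ↥(Z ∩ (pullback.snd sX sY) ⁻¹' {pullback.snd sX sY w} ∩ (O : Set _)) := by
  classical
  let I := Scheme.IdealSheafData.vanishingIdeal (X := pullback sX sY) ⟨Z, hZc⟩
  let ι := I.subschemeι
  have hrange : Set.range ι = Z := by simp [ι, I]
  let e : ↥I.subscheme ≃ₜ ↥Z := (ι.isEmbedding.toHomeomorph).trans (Homeomorph.setCongr hrange)
  haveI : IrreducibleSpace ↥I.subscheme := by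
    haveI : IrreducibleSpace ↥Z := @IrreducibleSpace.mk _ _ (Subtype.preirreducibleSpace hZi.2) hZi.nonempty.to_subtype
    have h : IsIrreducible (Set.univ : Set ↥I.subscheme) := by
      have h0 := (IrreducibleSpace.isIrreducible_univ ↥Z).image e.symm e.symm.continuous.continuousOn
      rwa [Set.image_univ, e.symm.surjective.range_eq] at h0
    exact (irreducibleSpace_def _).2 h
  let f := ι ≫ pullback.snd sX sY
  haveI : LocallyOfFiniteType (pullback.snd sX sY) := inferInstance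
  haveI : LocallyOfFiniteType f := inferInstance
  have hsurj : Function.Surjective f := fun y => by
    obtain ⟨z, hz, rfl⟩ := hZs.symm ▸ Set.mem_univ y
    obtain ⟨a, rfl⟩ := hrange.symm ▸ hz
    exact ⟨a, (Scheme.Hom.comp_apply _ _ _)⟩
  haveI : IsDominant f := ⟨hsurj.denseRange⟩
  haveI : IrreducibleSpace ↥Y := inferInstance
  have himg : ∀ (y : Y) (O : Set ↥(pullback sX sY)),
      ι '' (ι ⁻¹' O ∩ f ⁻¹' {y}) = Z ∩ (pullback.snd sX sY) ⁻¹' {y} ∩ O := fun y O => by
    ext z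
    constructor
    · rintro ⟨a, ⟨haO, hay⟩, rfl⟩
      exact ⟨⟨hrange ▸ ⟨a, rfl⟩, by simpa [f] using hay⟩, haO⟩
    · rintro ⟨⟨hzZ, hzy⟩, hzO⟩
      obtain ⟨a, rfl⟩ := hrange.symm ▸ hzZ
      exact ⟨a, ⟨hzO, by simpa [f] using hzy⟩, rfl⟩
  have hdim : ∀ (y : Y) (O : Set ↥(pullback sX sY)), topologicalKrullDim ↥(ι ⁻¹' O ∩ f ⁻¹' {y}) =
      topologicalKrullDim ↥(Z ∩ (pullback.snd sX sY) ⁻¹' {y} ∩ O) := fun y O => by
    rw [← himg y O]
    exact IsHomeomorph.topologicalKrullDim_eq _ (ι.isEmbedding.homeomorphImage _).isHomeomorph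
  have hfib : ∀ y : Y, topologicalKrullDim ↥(f.fiber y) = d := fun y => by
    rw [← hZd y, ← Set.inter_univ (Z ∩ _), ← hdim y Set.univ, Set.preimage_univ, Set.univ_inter]
    exact IsHomeomorph.topologicalKrullDim_eq _ (f.fiberHomeo y).isHomeomorph
  have hat : ∀ w, FlatMor.fibreDimAt f w = d := fun w =>
    le_antisymm ((GrothLib.FibreDimAt6.dim_fiber_le_iff f (f w) _).1 (hfib _).le w rfl)
      ((hfib _).ge.trans (Groth.Agent.S3388.result f w))
  haveI : UniversallyOpen f := Groth.Agent.S2568.result (fun y =>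
    haveI := (hN y).1
    haveI := (hN y).2
    GrothLib.CKaehler2.isGeomUnibranch_of_normal _) f fun w => by rw [hat, hfib]
  refine ⟨fun O hO => ?_, fun w hw O hwO => ?_⟩
  · have e' : (pullback.snd sX sY) '' (Z ∩ O) = f '' (ι ⁻¹' O) := by
      ext y
      constructor
      · rintro ⟨z, ⟨hzZ, hzO⟩, rfl⟩
        obtain ⟨a, rfl⟩ := hrange.symm ▸ hzZ
        exact ⟨a, hzO, Scheme.Hom.comp_apply _ _ _⟩
      · rintro ⟨a, ha, rfl⟩
        exact ⟨ι a, ⟨hrange ▸ ⟨a, rfl⟩, ha⟩, (Scheme.Hom.comp_apply _ _ _).symm⟩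
    rw [e']
    exact f.isOpenMap _ (hO.preimage ι.continuous)
  · obtain ⟨a, rfl⟩ := hrange.symm ▸ hw
    refine (hat a).ge.trans ((GrothLib.FibreDimAt6.fibreDimAt_le_of_open f a (ι ⁻¹ᵁ O) hwO).trans (le_of_eq ?_))
    rw [show pullback.snd sX sY (ι a) = f a from (Scheme.Hom.comp_apply _ _ _).symm]
    exact hdim (f a) O

theorem main [IsIntegral X] (hX : RelProj.IsHProjective sX) [IsIntegral Y] [IsProper sY] (hN : Pi1.IsNormalScheme Y)
    (d : ℕ) {n : ℕ} (Z : Fin n → Set ↥(pullback sX sY)) (hZc : ∀ i, IsClosed (Z i))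
    (hZi : ∀ i, IsIrreducible (Z i)) (hZs : ∀ i, (pullback.snd sX sY) '' Z i = Set.univ)
    (hZd : ∀ i (y : Y), topologicalKrullDim ↥(Z i ∩ (pullback.snd sX sY) ⁻¹' {y}) = d)
    (B : Set Y) (hB : IsClosed B) (hBc : _root_.IsPreconnected B)
    (hFd : topologicalKrullDim
        ↥((pullback.fst sX sY) '' ((⋃ i, Z i) ∩ (pullback.snd sX sY) ⁻¹' B)) = d) :
    (⋃ i, Z i) ∩ (pullback.snd sX sY) ⁻¹' B =
      (pullback.fst sX sY) ⁻¹' ((pullback.fst sX sY) '' ((⋃ i, Z i) ∩ (pullback.snd sX sY) ⁻¹' B)) ∩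
        (pullback.snd sX sY) ⁻¹' B := by
  classical
  haveI : IsProper sX := by
    obtain ⟨m, i, hi, hif⟩ := hX
    haveI := GrothLib.Chow.isProper_toBase m (Spec (CommRingCat.of k))
    rw [← hif]
    infer_instance
  let p₁ := pullback.fst sX sY
  let p₂ := pullback.snd sX sY
  haveI : IsProper p₁ := inferInstance
  haveI : IsProper p₂ := inferInstance
  haveI : JacobsonSpace ↥(pullback sX sY) := LocallyOfFiniteType.jacobsonSpace (p₁ ≫ sX)
  haveI : JacobsonSpace ↥X := LocallyOfFiniteType.jacobsonSpace sX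
  haveI : JacobsonSpace ↥Y := LocallyOfFiniteType.jacobsonSpace sY
  haveI : IsLocallyNoetherian X := LocallyOfFiniteType.isLocallyNoetherian sX
  haveI : CompactSpace ↥X := QuasiCompact.compactSpace_of_compactSpace sX
  haveI : IsNoetherian X := ⟨⟩
  haveI : IsLocallyNoetherian (pullback sX sY) := LocallyOfFiniteType.isLocallyNoetherian (p₁ ≫ sX)
  haveI : CompactSpace ↥(pullback sX sY) := QuasiCompact.compactSpace_of_compactSpace (p₁ ≫ sX)
  haveI : IsNoetherian (pullback sX sY) := ⟨⟩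
  set S := ⋃ i, Z i with hSdef
  have hSc : IsClosed S := isClosed_iUnion_of_finite hZc
  set F := p₁ '' (S ∩ p₂ ⁻¹' B) with hFdef
  have hFc : IsClosed F := p₁.isClosedMap _ (hSc.inter (hB.preimage p₂.continuous))
  have hFamily := fun i => open_and_dim sX sY hN (hZc i) (hZi i) (hZs i) (hZd i)
  have hopen : ∀ O : Set ↥(pullback sX sY), IsOpen O → IsOpen (p₂ '' (S ∩ O)) := fun O hO => by
    rw [hSdef, Set.iUnion_inter, Set.image_iUnion]
    exact isOpen_iUnion fun i => (hFamily i).1 O hO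
  -- every point of a fibre lies on a component mapping onto a `d`-dimensional piece of `F`
  have key : ∀ y : Y, IsClosed ({y} : Set Y) → y ∈ B → ∀ w, w ∈ S → p₂ w = y → ∃ C : Set ↥(pullback sX sY),
      C ⊆ S ∩ p₂ ⁻¹' {y} ∧ w ∈ C ∧ IsClosed (p₁ '' C) ∧ IsIrreducible (p₁ '' C) ∧ p₁ '' C ⊆ F ∧
        ∀ G : Set X, IsIrreducible G → p₁ '' C ⊆ G → G ⊆ F → p₁ '' C = G := by
    intro y hy hyB w hwS hwy
    obtain ⟨i, hwi⟩ := Set.mem_iUnion.1 hwS
    obtain ⟨C, hCc, hCi, hCK, hwC, hCd⟩ := exists_component ((hZc i).inter (hy.preimage p₂.continuous))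
      (show w ∈ Z i ∩ p₂ ⁻¹' {y} from ⟨hwi, hwy⟩) (fun O hO => by
        have := (hFamily i).2 w hwi O hO
        rwa [show pullback.snd sX sY w = y from hwy] at this)
    have hCS : C ⊆ S ∩ p₂ ⁻¹' {y} := fun x hx => ⟨Set.mem_iUnion.2 ⟨i, (hCK hx).1⟩, (hCK hx).2⟩
    have hGc : IsClosed (p₁ '' C) := p₁.isClosedMap _ hCc
    have hinj : Set.InjOn p₁ C := by
      intro a ha b hb hab
      by_contra hne
      -- separate two points by a closed point
      rcases not_and_or.1 (fun h : a ⤳ b ∧ b ⤳ a => hne (h.1.antisymm h.2).eq) with h | h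
      all_goals
        rw [specializes_iff_mem_closure] at h
      · obtain ⟨z, ⟨hzb, hza⟩, hzc⟩ := nonempty_inter_closedPoints (X := ↥(pullback sX sY))
          (Z := closure {b} ∩ (closure {a})ᶜ) ⟨b, subset_closure rfl, h⟩
          (isClosed_closure.isLocallyClosed.inter isClosed_closure.isOpen_compl.isLocallyClosed)
        have hzC : z ∈ C := closure_minimal (Set.singleton_subset_iff.2 hb) hCc hzb
        have hz1 : p₁ z ∈ closure {p₁ a} := by
          rw [hab]
          exact (image_closure_subset_closure_image p₁.continuous).trans (by rw [Set.image_singleton]) ⟨z, hzb, rfl⟩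
        rw [← Chev28.closure_image_closure_singleton p₁.continuous a] at hz1
        rw [(p₁.isClosedMap _ isClosed_closure).closure_eq] at hz1
        obtain ⟨a', ha', ha'z⟩ := hz1
        have hK : IsClosed (closure {a} ∩ p₁ ⁻¹' {p₁ z}) := isClosed_closure.inter
          ((show IsClosed ({p₁ z} : Set X) from by
            simpa using p₁.isClosedMap _ hzc).preimage p₁.continuous)
        obtain ⟨v, ⟨hva, hvz⟩, hvc⟩ := nonempty_inter_closedPoints (X := ↥(pullback sX sY))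
          (Z := closure {a} ∩ p₁ ⁻¹' {p₁ z}) ⟨a', ha', ha'z⟩ hK.isLocallyClosed
        have hvC : v ∈ C := closure_minimal (Set.singleton_subset_iff.2 ha) hCc hva
        refine hza ?_
        rw [show z = v from closedPoint_eq sX sY hzc hvc hvz.symm ((hCK hzC).2.trans (hCK hvC).2.symm)]
        exact hva
      · obtain ⟨z, ⟨hza, hzb⟩, hzc⟩ := nonempty_inter_closedPoints (X := ↥(pullback sX sY))
          (Z := closure {a} ∩ (closure {b})ᶜ) ⟨a, subset_closure rfl, h⟩
          (isClosed_closure.isLocallyClosed.inter isClosed_closure.isOpen_compl.isLocallyClosed)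
        have hzC : z ∈ C := closure_minimal (Set.singleton_subset_iff.2 ha) hCc hza
        have hz1 : p₁ z ∈ closure {p₁ b} := by
          rw [← hab]
          exact (image_closure_subset_closure_image p₁.continuous).trans (by rw [Set.image_singleton]) ⟨z, hza, rfl⟩
        rw [← Chev28.closure_image_closure_singleton p₁.continuous b] at hz1
        rw [(p₁.isClosedMap _ isClosed_closure).closure_eq] at hz1
        obtain ⟨b', hb', hb'z⟩ := hz1
        have hK : IsClosed (closure {b} ∩ p₁ ⁻¹' {p₁ z}) := isClosed_closure.inter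
          ((show IsClosed ({p₁ z} : Set X) from by
            simpa using p₁.isClosedMap _ hzc).preimage p₁.continuous)
        obtain ⟨v, ⟨hvb, hvz⟩, hvc⟩ := nonempty_inter_closedPoints (X := ↥(pullback sX sY))
          (Z := closure {b} ∩ p₁ ⁻¹' {p₁ z}) ⟨b', hb', hb'z⟩ hK.isLocallyClosed
        have hvC : v ∈ C := closure_minimal (Set.singleton_subset_iff.2 hb) hCc hvb
        refine hzb ?_
        rw [show z = v from closedPoint_eq sX sY hzc hvc hvz.symm ((hCK hzC).2.trans (hCK hvC).2.symm)]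
        exact hvb
    have hemb : Topology.IsEmbedding (fun c : ↥C => p₁ c) :=
      (Topology.IsClosedEmbedding.of_continuous_injective_isClosedMap (p₁.continuous.comp continuous_subtype_val)
        hinj.injective (p₁.isClosedMap.comp hCc.isClosedEmbedding_subtypeVal.isClosedMap)).isEmbedding
    have hGd : topologicalKrullDim ↥(p₁ '' C) = topologicalKrullDim ↥C := by
      have e1 : Set.range (fun c : ↥C => p₁ c) = p₁ '' C := by ext; simp
      exact (IsHomeomorph.topologicalKrullDim_eq _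
        (hemb.toHomeomorph.trans (Homeomorph.setCongr e1)).isHomeomorph).symm
    have hCF : p₁ '' C ⊆ F := Set.image_mono fun x hx => ⟨(hCS hx).1, by
      show p₂ x ∈ B
      rw [(hCS hx).2]; exact hyB⟩
    have hGle : ∀ G : Set X, G ⊆ F → topologicalKrullDim ↥G ≤ d := fun G hG =>
      ((Topology.IsEmbedding.inclusion hG).topologicalKrullDim_le).trans hFd.le
    have hGeq : topologicalKrullDim ↥(p₁ '' C) = d := le_antisymm (hGle _ hCF) (hGd ▸ hCd)
    exact ⟨C, hCS, hwC, hGc, hCi.image _ p₁.continuous.continuousOn, hCF, fun G hG hCG hGF =>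
      eq_of_subset_of_dim hGc hG hCG hGeq (hGle G hGF)⟩
  -- closed points
  suffices h : ∀ z, IsClosed ({z} : Set ↥(pullback sX sY)) → p₁ z ∈ F → p₂ z ∈ B → z ∈ S by
    refine Set.Subset.antisymm (fun z hz => ⟨⟨z, hz, rfl⟩, hz.2⟩) fun z hz => ⟨?_, hz.2⟩
    by_contra hzS
    obtain ⟨v, ⟨⟨hv1, hv2⟩, hv3⟩, hvc⟩ := nonempty_inter_closedPoints (X := ↥(pullback sX sY))
      (Z := (p₁ ⁻¹' F ∩ p₂ ⁻¹' B) ∩ Sᶜ) ⟨z, hz, hzS⟩
      (((hFc.preimage p₁.continuous).inter (hB.preimage p₂.continuous)).isLocallyClosed.inter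
        hSc.isOpen_compl.isLocallyClosed)
    exact hv3 (h v hvc hv1 hv2)
  intro z hzc hz1 hz2
  have hxc : IsClosed ({p₁ z} : Set X) := by simpa using p₁.isClosedMap _ hzc
  obtain ⟨w', hw', hw'z⟩ := hz1
  obtain ⟨w, ⟨⟨hwS, hwB⟩, hwx⟩, hwc⟩ := nonempty_inter_closedPoints (X := ↥(pullback sX sY))
    (Z := (S ∩ p₂ ⁻¹' B) ∩ p₁ ⁻¹' {p₁ z}) ⟨w', hw', hw'z⟩
    ((hSc.inter (hB.preimage p₂.continuous)).inter (hxc.preimage p₁.continuous)).isLocallyClosed
  have hy1 : IsClosed ({p₂ w} : Set Y) := by simpa using p₂.isClosedMap _ hwc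
  obtain ⟨C₁, hC₁, hwC₁, hGc, hGi, hGF, hGmax⟩ := key (p₂ w) hy1 hwB w hwS rfl
  set G := p₁ '' C₁ with hGdef
  obtain ⟨𝒢, h𝒢f, h𝒢c, h𝒢i, h𝒢⟩ := NoetherianSpace.exists_finite_set_isClosed_irreducible hFc
  have h𝒢sub : ∀ g ∈ 𝒢, g ⊆ F := fun g hg => h𝒢 ▸ Set.subset_sUnion_of_mem hg
  have hinG : ∀ A : Set X, IsIrreducible A → A ⊆ F → ∃ g ∈ 𝒢, A ⊆ g := fun A hA hAF =>
    (isIrreducible_iff_sUnion_isClosed.1 hA) h𝒢f.toFinset (fun g hg => h𝒢c g (h𝒢f.mem_toFinset.1 hg))
      (by rw [h𝒢f.coe_toFinset, ← h𝒢]; exact hAF) |>.imp fun g h => ⟨h𝒢f.mem_toFinset.1 h.1, h.2⟩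
  let U : Set X := (⋃ g ∈ {g ∈ 𝒢 | g ≠ G}, g)ᶜ
  have hU : IsOpen U := ((h𝒢f.subset fun g hg => hg.1).isClosed_biUnion fun g hg => h𝒢c g hg.1).isOpen_compl
  obtain ⟨x₀, ⟨hx₀G, hx₀U⟩, hx₀c⟩ : ((G ∩ U) ∩ closedPoints X).Nonempty := by
    refine nonempty_inter_closedPoints ?_ (hGc.isLocallyClosed.inter hU.isLocallyClosed)
    by_contra hne
    obtain ⟨g, hg, hGg⟩ := (isIrreducible_iff_sUnion_isClosed.1 hGi) (h𝒢f.toFinset.filter fun g => g ≠ G)
      (fun g hg => h𝒢c g (h𝒢f.mem_toFinset.1 (Finset.mem_filter.1 hg).1))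
      (fun x hx => by
        have hxU : x ∉ U := fun h => hne ⟨x, hx, h⟩
        obtain ⟨g, hg, hxg⟩ := Set.mem_iUnion₂.1 (not_not.1 hxU)
        exact ⟨g, Finset.mem_coe.2 (Finset.mem_filter.2 ⟨h𝒢f.mem_toFinset.2 hg.1, hg.2⟩), hxg⟩)
    obtain ⟨hg1, hg2⟩ := Finset.mem_filter.1 hg
    exact hg2 (hGmax g (h𝒢i g (h𝒢f.mem_toFinset.1 hg1)) hGg (h𝒢sub g (h𝒢f.mem_toFinset.1 hg1))).symm
  let A : Set Y := p₂ '' (S ∩ p₁ ⁻¹' U)
  let T : Set Y := ⋂ x ∈ G ∩ closedPoints X, p₂ '' (S ∩ p₁ ⁻¹' {x})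
  have hA : IsOpen A := hopen _ (hU.preimage p₁.continuous)
  have hT : IsClosed T := isClosed_biInter fun x hx =>
    p₂.isClosedMap _ (hSc.inter ((show IsClosed ({x} : Set X) from hx.2).preimage p₁.continuous))
  have hAT : ∀ y : Y, IsClosed ({y} : Set Y) → y ∈ B → y ∈ A → y ∈ T := by
    intro y hy hyB hyA
    obtain ⟨v', ⟨hv'S, hv'U⟩, hv'y⟩ := hyA
    obtain ⟨v, ⟨⟨hvS, hvy⟩, hvU⟩, hvc⟩ := nonempty_inter_closedPoints (X := ↥(pullback sX sY))
      (Z := (S ∩ p₂ ⁻¹' {y}) ∩ p₁ ⁻¹' U) ⟨v', ⟨hv'S, hv'y⟩, hv'U⟩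
      ((hSc.inter (hy.preimage p₂.continuous)).isLocallyClosed.inter (hU.preimage p₁.continuous).isLocallyClosed)
    obtain ⟨C, hC, hvC, -, hCi, hCF, hCmax⟩ := key y hy hyB v hvS hvy
    obtain ⟨g, hg, hCg⟩ := hinG _ hCi hCF
    have hgG : g = G := by_contra fun hne => hvU (Set.mem_iUnion₂.2 ⟨g, ⟨hg, hne⟩, hCg ⟨v, hvC, rfl⟩⟩)
    have hCG : p₁ '' C = G := hgG ▸ hCmax g (h𝒢i g hg) hCg (h𝒢sub g hg)
    refine Set.mem_iInter₂.2 fun x hx => ?_
    obtain ⟨c, hcC, hcx⟩ := hCG.symm ▸ hx.1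
    exact ⟨c, ⟨(hC hcC).1, hcx⟩, (hC hcC).2⟩
  have hTA : ∀ y ∈ T, y ∈ A := fun y hy => by
    obtain ⟨v, ⟨hvS, hvx⟩, hvy⟩ := Set.mem_iInter₂.1 hy x₀ ⟨hx₀G, hx₀c⟩
    exact ⟨v, ⟨hvS, by show p₁ v ∈ U; rw [hvx]; exact hx₀U⟩, hvy⟩
  have hAT' : B ∩ A ⊆ T := by
    intro y hy
    by_contra hyT
    obtain ⟨v, ⟨⟨hvB, hvA⟩, hvT⟩, hvc⟩ := nonempty_inter_closedPoints (X := ↥Y) (Z := (B ∩ A) ∩ Tᶜ) ⟨y, hy, hyT⟩
      ((hB.isLocallyClosed.inter hA.isLocallyClosed).inter hT.isOpen_compl.isLocallyClosed)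
    exact hvT (hAT v hvc hvB hvA)
  have hy1T : p₂ w ∈ T := Set.mem_iInter₂.2 fun x hx => by
    obtain ⟨c, hcC, hcx⟩ := hx.1
    exact ⟨c, ⟨(hC₁ hcC).1, hcx⟩, (hC₁ hcC).2⟩
  have hBT : B ⊆ T := by
    intro y hy
    by_contra hyT
    obtain ⟨u, huB, huA, huT⟩ := hBc A Tᶜ hA hT.isOpen_compl (fun v hv => by
      by_cases h : v ∈ T
      · exact Or.inl (hTA v h)
      · exact Or.inr h) ⟨p₂ w, hwB, hTA _ hy1T⟩ ⟨y, hy, hyT⟩
    exact huT (hAT' ⟨huB, huA⟩)
  obtain ⟨v', ⟨hv'S, hv'x⟩, hv'y⟩ := Set.mem_iInter₂.1 (hBT hz2) (p₁ z)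
    ⟨⟨w, hwC₁, hwx⟩, hxc⟩
  have hyc : IsClosed ({p₂ z} : Set Y) := by simpa using p₂.isClosedMap _ hzc
  obtain ⟨v, ⟨⟨hvS, hvx⟩, hvy⟩, hvc⟩ := nonempty_inter_closedPoints (X := ↥(pullback sX sY))
    (Z := (S ∩ p₁ ⁻¹' {p₁ z}) ∩ p₂ ⁻¹' {p₂ z}) ⟨v', ⟨hv'S, hv'x⟩, hv'y⟩
    ((hSc.inter (hxc.preimage p₁.continuous)).inter (hyc.preimage p₂.continuous)).isLocallyClosed
  rw [closedPoint_eq sX sY hzc hvc hvx.symm hvy.symm]
  exact hvS

end GrothLib.CycInter
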